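import Groth.Agent.CAlgOdd.Acyclicity
import Mathlib

/-!
# Minimal complexes of finite free modules over a local ring and the depth
-/

universe u

set_option linter.style.haveILetI false
set_option maxHeartbeats 1000000

open CategoryTheory CategoryTheory.Limits IsLocalRing
open Groth.Agent.CAlgOdd.Acyclicity (DepthGE depthGE_iff depthGE_of_isZero bnd bndSeq bndSeq_shortExact)

namespace Groth.Agent.H1MinCx

variable {R : Type u} [CommRing R] [IsLocalRing R] [IsNoetherianRing R]

local notation "κ" => ModuleCat.of R (R ⧸ maximalIdeal R)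

theorem smul_ext_eq_zero {a : R} (ha : a ∈ maximalIdeal R) {X : ModuleCat.{u} R} {t : ℕ}
    (y : Abelian.Ext κ X t) : a • y = 0 := by
  have h0 : a • (𝟙 κ) = 0 := by
    refine ModuleCat.hom_ext (LinearMap.ext fun z => ?_)
    obtain ⟨r, rfl⟩ := Ideal.Quotient.mk_surjective z
    show a • (Ideal.Quotient.mk (maximalIdeal R) r) = 0
    rw [Algebra.smul_def, Ideal.Quotient.algebraMap_eq, ← map_mul, Ideal.Quotient.eq_zero_iff_mem]
    exact Ideal.mul_mem_right _ _ ha
  conv_lhs => rw [← Abelian.Ext.mk₀_id_comp y]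
  rw [← Abelian.Ext.smul_comp, ← Abelian.Ext.mk₀_smul, h0, Abelian.Ext.mk₀_zero, Abelian.Ext.zero_comp]

/-- Post-composition, additively. -/
noncomputable def postcomp {X Y : ModuleCat.{u} R} {t : ℕ} (y : Abelian.Ext κ X t) :
    (X →ₗ[R] Y) →+ Abelian.Ext κ Y t :=
  AddMonoidHom.mk' (fun g => y.comp (Abelian.Ext.mk₀ (ModuleCat.ofHom g)) (add_zero t)) fun g g' => by
    show y.comp (Abelian.Ext.mk₀ (ModuleCat.ofHom g + ModuleCat.ofHom g')) (add_zero t) = _
    rw [Abelian.Ext.mk₀_add, Abelian.Ext.comp_add]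

theorem comp_eq_zero_of_minimal {X Y : ModuleCat.{u} R} [Module.Free R X] [Module.Finite R X] [Module.Free R Y]
    [Module.Finite R Y] (f : X ⟶ Y) (hf : LinearMap.range f.hom ≤ maximalIdeal R • (⊤ : Submodule R Y)) {t : ℕ}
    (y : Abelian.Ext κ X t) : y.comp (Abelian.Ext.mk₀ f) (add_zero t) = 0 := by
  let bX := Module.Free.chooseBasis R X
  let bY := Module.Free.chooseBasis R Y
  let c := fun i j => bY.repr (f.hom (bX j)) i
  have hc : ∀ i j, c i j ∈ maximalIdeal R := fun i j => by
    have h1 : maximalIdeal R • (⊤ : Submodule R Y) ≤ Submodule.comap (bY.coord i) (maximalIdeal R) :=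
      Submodule.smul_le.2 fun r hr y _ => by
        show bY.coord i (r • y) ∈ maximalIdeal R
        rw [map_smul]
        exact Ideal.mul_mem_right _ _ hr
    exact h1 (hf ⟨_, rfl⟩)
  have hdec : f.hom = ∑ i, ∑ j, c i j • (bX.coord j).smulRight (bY i) := bX.ext fun j' => by
    classical
    simp only [LinearMap.sum_apply, LinearMap.smul_apply, LinearMap.smulRight_apply, Module.Basis.coord_apply,
      Module.Basis.repr_self]
    refine (bY.sum_repr (f.hom (bX j'))).symm.trans (Finset.sum_congr rfl fun i _ => ?_)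
    rw [Finset.sum_eq_single j' (fun j _ hj => by simp [Finsupp.single_eq_of_ne hj]) (by simp)]
    simp [c]
  show postcomp y f.hom = 0
  rw [hdec, map_sum]
  refine Finset.sum_eq_zero fun i _ => ?_
  rw [map_sum]
  refine Finset.sum_eq_zero fun j _ => ?_
  show y.comp (Abelian.Ext.mk₀ (c i j • ModuleCat.ofHom ((bX.coord j).smulRight (bY i)))) (add_zero t) = 0
  rw [Abelian.Ext.mk₀_smul, Abelian.Ext.comp_smul, smul_ext_eq_zero (hc i j)]

theorem depthGE_free {d : ℕ} (hR : DepthGE d (ModuleCat.of R R)) (X : ModuleCat.{u} R) [Module.Free R X]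
    [Module.Finite R X] : DepthGE d X := fun t ht => subsingleton_of_forall_eq 0 fun y => by
  let b := Module.Free.chooseBasis R X
  haveI := hR t ht
  have hdec : LinearMap.id = ∑ i, (LinearMap.toSpanSingleton R X (b i)).comp (b.coord i) := LinearMap.ext fun x => by
    simp only [LinearMap.sum_apply, LinearMap.comp_apply, LinearMap.toSpanSingleton_apply, LinearMap.id_apply,
      Module.Basis.coord_apply]
    exact (b.sum_repr x).symm
  have h1 : postcomp y (LinearMap.id : X →ₗ[R] X) = y := Abelian.Ext.comp_mk₀_id y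
  rw [hdec, map_sum] at h1
  rw [← h1]
  refine Finset.sum_eq_zero fun i _ => ?_
  show y.comp (Abelian.Ext.mk₀ (ModuleCat.ofHom (b.coord i) ≫
    ModuleCat.ofHom (LinearMap.toSpanSingleton R X (b i)))) (add_zero t) = 0
  rw [← Abelian.Ext.mk₀_comp_mk₀, ← Abelian.Ext.comp_assoc_of_second_deg_zero,
    Subsingleton.elim (y.comp (Abelian.Ext.mk₀ (ModuleCat.ofHom (b.coord i))) (add_zero t)) 0,
    Abelian.Ext.zero_comp]

theorem nontrivial_ext_free {d : ℕ} (hR : ¬ Subsingleton (Abelian.Ext κ (ModuleCat.of R R) d)) (X : ModuleCat.{u} R)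
    [Module.Free R X] (hX : ¬ IsZero X) : ¬ Subsingleton (Abelian.Ext κ X d) := fun hs => by
  let b := Module.Free.chooseBasis R X
  haveI : Nontrivial X := not_subsingleton_iff_nontrivial.1 fun h => hX (ModuleCat.isZero_of_subsingleton _)
  obtain ⟨i⟩ := b.index_nonempty
  refine hR (subsingleton_of_forall_eq 0 fun y => ?_)
  have hid : ModuleCat.ofHom (LinearMap.toSpanSingleton R X (b i)) ≫ ModuleCat.ofHom (b.coord i) =
      𝟙 (ModuleCat.of R R) := ModuleCat.hom_ext (LinearMap.ext_ring (by simp))
  rw [← Abelian.Ext.comp_mk₀_id y, ← hid, ← Abelian.Ext.mk₀_comp_mk₀, ← Abelian.Ext.comp_assoc_of_second_deg_zero,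
    Subsingleton.elim (y.comp (Abelian.Ext.mk₀ (ModuleCat.ofHom (LinearMap.toSpanSingleton R X (b i)))) (add_zero d)) 0,
    Abelian.Ext.zero_comp]

theorem depth_spec {d : ℕ} (hd : LocCoh.depth R R = d) :
    DepthGE d (ModuleCat.of R R) ∧ ¬ Subsingleton (Abelian.Ext κ (ModuleCat.of R R) d) := by
  refine ⟨(depthGE_iff d _).2 hd.ge, fun h => ?_⟩
  have h1 : DepthGE (d + 1) (ModuleCat.of R R) := fun t ht => by
    rcases Nat.lt_succ_iff_lt_or_eq.1 ht with h' | rfl
    · exact (depthGE_iff d _).2 hd.ge t h'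
    · exact h
  have h2 := (depthGE_iff (d + 1) _).1 h1
  rw [show LocCoh.depth R (ModuleCat.of R R) = LocCoh.depth R R from rfl, hd] at h2
  have : d + 1 ≤ d := by exact_mod_cast h2
  omega

variable (F : ChainComplex (ModuleCat.{u} R) ℕ) (k d : ℕ) (hbd : ∀ i, k < i → IsZero (F.X i))
  (hfree : ∀ i, Module.Free R (F.X i) ∧ Module.Finite R (F.X i)) (hd : LocCoh.depth R R = d)

include hfree hd in
theorem depthGE_X (j : ℕ) : DepthGE d (F.X j) :=
  haveI := (hfree j).1; haveI := (hfree j).2; depthGE_free (depth_spec hd).1 _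

include hbd in
omit [IsLocalRing R] [IsNoetherianRing R] in
theorem isZero_bnd {j : ℕ} (hj : k ≤ j) : IsZero (bnd F j) := by
  have := ModuleCat.subsingleton_of_isZero (hbd (j + 1) (by omega))
  have : Subsingleton (LinearMap.range (F.d (j + 1) j).hom) := by
    refine subsingleton_of_forall_eq 0 ?_
    rintro ⟨_, x, rfl⟩
    apply Subtype.ext
    show (F.d (j + 1) j).hom x = 0
    rw [Subsingleton.elim x 0, map_zero]
  exact ModuleCat.isZero_of_subsingleton _

variable (i₀ : ℕ) (habove : ∀ j, i₀ < j → F.ExactAt j)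

include hbd hfree hd habove in
theorem depthGE_bnd : ∀ j, i₀ ≤ j → DepthGE (d - (k - 1 - j)) (bnd F j) := by
  suffices H : ∀ n j, k - j = n → i₀ ≤ j → DepthGE (d - (k - 1 - j)) (bnd F j) from fun j => H _ j rfl
  intro n
  induction n with
  | zero => exact fun j hj _ => depthGE_of_isZero _ (isZero_bnd F k hbd (by omega))
  | succ n ih =>
    intro j hj hij t ht
    refine LC.ext_subsingleton_X₃ (bndSeq_shortExact F j (habove (j + 1) (by omega))) _ t
      (depthGE_X F d hfree hd (j + 1) t (by omega)) ?_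
    by_cases hjk : k ≤ j + 1
    · exact depthGE_of_isZero (t + 2) (isZero_bnd F k hbd hjk) (t + 1) (by omega)
    · exact ih (j + 1) (by omega) (by omega) (t + 1) (by omega)

variable (hmin : ∀ i j, LinearMap.range (F.d i j).hom ≤ maximalIdeal R • (⊤ : Submodule R (F.X j)))

include hbd hfree hmin habove in
/-- Classes of the top boundary module die in the free module around it. -/
theorem comp_incl_top {j : ℕ} (hj : j + 1 = k) (hij : i₀ ≤ j) {t : ℕ} (z : Abelian.Ext κ (bnd F j) t) :
    z.comp (Abelian.Ext.mk₀ (ModuleCat.ofHom (LinearMap.range (F.d (j + 1) j).hom).subtype : bnd F j ⟶ F.X j))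
      (add_zero t) = 0 := by
  have hS := bndSeq_shortExact F j (habove (j + 1) (by omega))
  haveI : Subsingleton (Abelian.Ext κ (bndSeq F j).X₁ (t + 1)) :=
    depthGE_of_isZero (t + 2) (isZero_bnd F k hbd (by omega)) (t + 1) (by omega)
  obtain ⟨y, rfl⟩ := Abelian.Ext.covariant_sequence_exact₃ κ hS (n₁ := t + 1) z rfl (Subsingleton.elim _ _)
  rw [Abelian.Ext.comp_assoc_of_second_deg_zero, Abelian.Ext.mk₀_comp_mk₀,
    show (bndSeq F j).g ≫ (ModuleCat.ofHom (LinearMap.range (F.d (j + 1) j).hom).subtype : bnd F j ⟶ F.X j) =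
      F.d (j + 1) j from rfl]
  haveI := (hfree (j + 1)).1; haveI := (hfree (j + 1)).2; haveI := (hfree j).1; haveI := (hfree j).2
  exact comp_eq_zero_of_minimal _ (hmin _ _) y

include hbd hfree hd hmin habove in
theorem nontrivial_ext_bnd (htop : ¬ IsZero (F.X k)) :
    ∀ j, i₀ ≤ j → j < k → k - 1 - j ≤ d → ¬ Subsingleton (Abelian.Ext κ (bnd F j) (d - (k - 1 - j))) := by
  suffices H : ∀ n j, k - 1 - j = n → i₀ ≤ j → j < k → n ≤ d →
      ¬ Subsingleton (Abelian.Ext κ (bnd F j) (d - n)) from fun j h1 h2 h3 => H _ j rfl h1 h2 h3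
  intro n
  induction n with
  | zero =>
    intro j hj hij hjk _ hs
    obtain rfl : j + 1 = k := by omega
    haveI := (hfree (j + 1)).1
    refine nontrivial_ext_free (depth_spec hd).2 (F.X (j + 1)) htop (subsingleton_of_forall_eq 0 fun z => ?_)
    have hS := bndSeq_shortExact F j (habove (j + 1) (by omega))
    obtain ⟨y, rfl⟩ := Abelian.Ext.covariant_sequence_exact₂ κ hS z
      (haveI : Subsingleton (Abelian.Ext κ (bndSeq F j).X₃ d) := by simpa using hs
       Subsingleton.elim _ _)
    haveI : Subsingleton (Abelian.Ext κ (bndSeq F j).X₁ d) :=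
      depthGE_of_isZero (d + 1) (isZero_bnd F (j + 1) hbd le_rfl) d (by omega)
    rw [Subsingleton.elim y 0, Abelian.Ext.zero_comp]
  | succ n ih =>
    intro j hj hij hjk hn hs
    refine ih (j + 1) (by omega) (by omega) (by omega) (by omega) (subsingleton_of_forall_eq 0 fun z => ?_)
    have hS := bndSeq_shortExact F j (habove (j + 1) (by omega))
    have hz : z.comp (Abelian.Ext.mk₀ (bndSeq F j).f) (add_zero (d - n)) = 0 := by
      rcases Nat.lt_or_ge (d - n) d with hlt | hge
      · haveI : Subsingleton (Abelian.Ext κ (bndSeq F j).X₂ (d - n)) := depthGE_X F d hfree hd (j + 1) (d - n) hlt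
        exact Subsingleton.elim _ _
      · exact comp_incl_top F k hbd hfree i₀ habove hmin (j := j + 1) (by omega) (by omega) z
    obtain ⟨y, rfl⟩ := Abelian.Ext.covariant_sequence_exact₁ κ hS z hz (n₀ := d - (n + 1)) (by omega)
    haveI : Subsingleton (Abelian.Ext κ (bndSeq F j).X₃ (d - (n + 1))) := hs
    rw [Subsingleton.elim y 0, Abelian.Ext.zero_comp]

include hbd hfree hd hmin in
/-- A minimal complex is not exact in all degrees `≥ k - d`. -/
theorem exists_not_exactAt (htop : ¬ IsZero (F.X k)) : ∃ i, k - d ≤ i ∧ i ≤ k ∧ ¬ F.ExactAt i := by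
  by_contra hcon
  push Not at hcon
  have habove' : ∀ j, k - d - 1 < j → F.ExactAt j := fun j hj => by
    by_cases hjk : j ≤ k
    · exact hcon j (by omega) hjk
    · exact HomologicalComplex.ExactAt.of_isZero (hbd j (by omega))
  by_cases hm : k - d = 0
  · have hall : ∀ j, F.ExactAt j := fun j => by
      by_cases hjk : j ≤ k
      · exact hcon j (by omega) hjk
      · exact HomologicalComplex.ExactAt.of_isZero (hbd j (by omega))
    have hnak : ∀ j, (∀ x, (F.d j (j - 1)).hom x = 0) → Subsingleton (F.X j) := fun j h0 => by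
      have hex := hall j
      rw [HomologicalComplex.exactAt_iff' F (j + 1) j (j - 1) (by simp) (by cases j <;> simp),
        ShortComplex.moduleCat_exact_iff] at hex
      haveI := (hfree j).2
      have htop' : (⊤ : Submodule R (F.X j)) ≤ maximalIdeal R • ⊤ := fun x _ => hmin (j + 1) j (hex x (h0 x))
      have hbot : (⊤ : Submodule R (F.X j)) = ⊥ :=
        Submodule.eq_bot_of_le_smul_of_le_jacobson_bot (maximalIdeal R) _ Module.Finite.fg_top htop'
          (IsLocalRing.jacobson_eq_maximalIdeal ⊥ bot_ne_top).ge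
      exact subsingleton_of_forall_eq 0 fun x => (Submodule.mem_bot R).1 (hbot ▸ Submodule.mem_top : x ∈ (⊥ : Submodule R _))
    have hzero : ∀ j, Subsingleton (F.X j) := fun j => by
      induction j with
      | zero => exact hnak 0 fun x => by rw [F.shape 0 0 (by simp)]; rfl
      | succ j ih => exact hnak (j + 1) fun x => Subsingleton.elim (α := F.X j) _ _
    haveI := hzero k
    exact htop (ModuleCat.isZero_of_subsingleton _)
  · have h := nontrivial_ext_bnd F k d hbd hfree hd (k - d - 1) habove' hmin htop (k - d - 1) le_rfl (by omega) (by omega)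
    rw [show d - (k - 1 - (k - d - 1)) = 0 by omega] at h
    let incl : bnd F (k - d - 1) ⟶ F.X (k - d - 1) :=
      ModuleCat.ofHom (LinearMap.range (F.d (k - d - 1 + 1) (k - d - 1)).hom).subtype
    haveI : Mono incl := (ModuleCat.mono_iff_injective _).mpr Subtype.val_injective
    by_cases hd0 : d = 0
    · refine h (subsingleton_of_forall_eq 0 fun z => ?_)
      have hz := comp_incl_top F k hbd hfree (k - d - 1) habove' hmin (j := k - d - 1) (by omega) le_rfl z
      obtain ⟨g, rfl⟩ := (Abelian.Ext.mk₀_bijective κ (bnd F (k - d - 1))).2 z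
      rw [Abelian.Ext.mk₀_comp_mk₀] at hz
      have hg : g ≫ incl = 0 := (Abelian.Ext.mk₀_bijective κ (F.X (k - d - 1))).1 (by rw [Abelian.Ext.mk₀_zero]; exact hz)
      rw [(cancel_mono incl).1 (hg.trans zero_comp.symm), Abelian.Ext.mk₀_zero]
    · exact h (LC.ext_zero_subsingleton_of_injective κ incl (depthGE_X F d hfree hd _ 0 (by omega)))

include hbd hfree hd in
/-- Finite length homology vanishes above `k - d`. -/
theorem exactAt_of_lt (hfl : ∀ i, IsFiniteLength R (F.homology i)) : ∀ i, k - d < i → F.ExactAt i := by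
  suffices H : ∀ n i, k + 1 - i = n → k - d < i → F.ExactAt i from fun i => H _ i rfl
  intro n
  induction n using Nat.strong_induction_on with
  | _ n ih =>
    intro i hn hi
    by_cases hik : k < i
    · exact HomologicalComplex.ExactAt.of_isZero (hbd i hik)
    have habove' : ∀ j, i < j → F.ExactAt j := fun j hj => by
      by_cases hjk : k < j
      · exact HomologicalComplex.ExactAt.of_isZero (hbd j hjk)
      · exact ih (k + 1 - j) (by omega) j rfl (by omega)
    let inj : F.cycles i →ₗ[R] F.X i := (F.iCycles i).hom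
    have hinj : Function.Injective inj := (ModuleCat.mono_iff_injective _).mp inferInstance
    let T := LinearMap.range (F.toCycles (i + 1) i).hom
    have hT : T.map inj = LinearMap.range (F.d (i + 1) i).hom := by
      rw [← LinearMap.range_comp]
      exact congrArg (fun φ => LinearMap.range φ.hom) (F.toCycles_i (i + 1) i)
    let eq : LinearMap.range (F.d (i + 1) i).hom ≃ₗ[R] T :=
      (LinearEquiv.ofEq _ _ hT.symm).trans (Submodule.equivMapOfInjective inj hinj T).symm
    let S : ShortComplex (ModuleCat.{u} R) :=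
      ShortComplex.mk (X₁ := bnd F i) (X₂ := F.cycles i) (X₃ := F.homology i)
        (ModuleCat.ofHom (T.subtype ∘ₗ eq.toLinearMap)) (F.homologyπ i) (by
          ext x
          obtain ⟨y, hy⟩ := (eq x).2
          show (F.homologyπ i).hom (eq x : F.cycles i) = 0
          rw [← hy]
          exact congrArg (fun φ => φ.hom y) (F.toCycles_comp_homologyπ (i + 1) i))
    have hex : (ShortComplex.mk _ _ (F.toCycles_comp_homologyπ (i + 1) i)).Exact :=
      ShortComplex.exact_of_g_is_cokernel _ (F.homologyIsCokernel (i + 1) i (by simp))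
    have hS : S.ShortExact :=
      { exact := by
          rw [ShortComplex.moduleCat_exact_iff] at hex ⊢
          intro x hx
          obtain ⟨y, hy⟩ := hex x hx
          refine ⟨eq.symm ⟨x, y, hy⟩, ?_⟩
          show (eq (eq.symm ⟨x, y, hy⟩) : F.cycles i) = x
          rw [LinearEquiv.apply_symm_apply]
        mono_f := (ModuleCat.mono_iff_injective _).mpr (Subtype.val_injective.comp eq.injective)
        epi_g := inferInstanceAs (Epi (F.homologyπ i)) }
    have hb : Subsingleton (Abelian.Ext κ (bnd F i) 1) := by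
      by_cases hik' : k ≤ i
      · exact depthGE_of_isZero 2 (isZero_bnd F k hbd hik') 1 (by omega)
      · exact depthGE_bnd F k d hbd hfree hd i habove' i le_rfl 1 (by omega)
    have hH : Subsingleton (Abelian.Ext κ (F.homology i) 0) :=
      LC.ext_subsingleton_X₃ hS _ 0
        (LC.ext_zero_subsingleton_of_injective κ (F.iCycles i) (depthGE_X F d hfree hd i 0 (by omega))) hb
    haveI : Subsingleton (κ ⟶ F.homology i) := Abelian.Ext.addEquiv₀.symm.subsingleton
    have hfl' := hfl i
    rw [isFiniteLength_iff_isNoetherian_isArtinian] at hfl'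
    obtain ⟨-, _⟩ := hfl'
    rw [HomologicalComplex.exactAt_iff_isZero_homology]
    by_contra hne
    haveI : Nontrivial (F.homology i) := not_subsingleton_iff_nontrivial.1 fun _ => hne (ModuleCat.isZero_of_subsingleton _)
    obtain ⟨m, hm⟩ := IsAtomic.exists_atom (Submodule R (F.homology i))
    haveI : IsSimpleModule R m := isSimpleModule_iff_isAtom.2 hm
    obtain ⟨I, hI, ⟨e⟩⟩ := isSimpleModule_iff_quot_maximal.1 (inferInstance : IsSimpleModule R m)
    let g : κ ⟶ F.homology i := ModuleCat.ofHom (m.subtype ∘ₗ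
      (e.symm.toLinearMap ∘ₗ (Submodule.quotEquivOfEq _ _ (IsLocalRing.eq_maximalIdeal hI).symm).toLinearMap))
    have hg : Function.Injective g.hom :=
      m.injective_subtype.comp (e.symm.injective.comp (LinearEquiv.injective _))
    rw [Subsingleton.elim g 0] at hg
    exact one_ne_zero (hg (a₁ := (1 : R ⧸ maximalIdeal R)) (a₂ := 0) rfl)

end Groth.Agent.H1MinCx
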